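import Cfsg.Agent.SmallSimple.OrderEight

/-!
# S4874, T6: nonabelian groups of order 8
-/

set_option autoImplicit false

namespace Cfsg.Agent.H716.K5

theorem order_eight_nonab {P : Type*} [Group P] (hP : Nat.card P = 8) (hc : ∃ a b : P, a * b ≠ b * a) :
    Nonempty (P ≃* DihedralGroup 4) ∨ Nonempty (P ≃* QuaternionGroup 2) := by
  refine Cfsg.Agent.SmallSimple.OrderEight.dihedral_or_quaternion_of_card_eight hP ?_
  intro h
  obtain ⟨a, b, hab⟩ := hc
  exact hab (h.is_comm.comm a b)

end Cfsg.Agent.H716.K5
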